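import Cfsg.Agent.SigTab.RestList_m3
import Cfsg.Agent.SevenCases.GoodMem_mg
import Cfsg.Agent.ResEven.Congr_m3
import Cfsg.Agent.OddHalf.Small.Transport
import Cfsg.Agent.KFacts.Th.Main
import Cfsg.Agent.MonsterX.ThOneClass
import Cfsg.Agent.Prune
set_option linter.all false
prune_inst 0x7f00000000000000000000000000000000000000000000000000000000000000000000000000000000000000000000000000000000000000000000000000000000000000000000000000000000000000003fffffffffffffffffffffffffffbeffbdffffffff
open scoped Cfsg.Agent.FastGrp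

/-!
# The Thompson group is of characteristic 2 type and of restricted even type (helper71)
-/

set_option autoImplicit false

namespace Cfsg.Agent.SevenCases.SporTh

open Subgroup Cfsg Cfsg.Agent.ResEven.Base Cfsg.Agent.OddHalf.Small.Crit Cfsg.Agent.Th.Base Cfsg.Agent.Th.KOracle
  Cfsg.Agent.KFacts.Th.Struct Cfsg.Agent.Th.CStruct Cfsg.Agent.Th.IndexUpper

universe u

theorem large : Cfsg.Agent.Co2Type.Quad.Large (Q0 gTh) (gTh 1) := Cfsg.Agent.KFacts.Th.Main.large Cfsg.Agent.KFacts.Th.Main.ctx

theorem charTwo_Th : IsCharacteristicTwoType Spor.Th := by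
  have := Cfsg.Agent.KFacts.Th.Main.finite
  refine isCharacteristicTwoType ?_ fun t ht => ?_
  · have h1 : orderOf (gTh 1) ∣ Nat.card Spor.Th := orderOf_dvd_natCard _
    rw [Cfsg.Agent.MonsterX.ThOneClass.orderOf_a] at h1
    exact even_iff_two_dvd.2 h1
  · exact (good_iff_of_isConj (Cfsg.Agent.MonsterX.ThOneClass.oneClass _ t
      Cfsg.Agent.MonsterX.ThOneClass.orderOf_a ht)) (GoodMem.good_of_large large)

theorem charTwo {G : Type*} [Group G] (h : Spor.IsoTh G) : IsCharacteristicTwoType G := by
  obtain ⟨e⟩ := h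
  exact OddHalf.Small.Transport.isCharacteristicTwoType e.symm charTwo_Th

theorem rank_Th : PRankAtLeast 2 4 Spor.Th := by
  have := Cfsg.Agent.KFacts.Th.Main.finite
  refine LargeRank.rank_of_large large 4 ?_
  rw [Cfsg.Agent.KFacts.Th.Main.ctx.cardQ]
  norm_num

theorem rank {G : Type*} [Group G] (h : Spor.IsoTh G) : PRankAtLeast 2 4 G := by
  obtain ⟨e⟩ := h
  exact rank_congr e.symm rank_Th

theorem th : Res.{u} (fun X _ => Spor.IsoTh X) := fun G _ _ h => by
  refine restricted_of_charTwo (charTwo h) ?_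
  obtain ⟨A, h1, h2, h3⟩ := rank h
  exact ⟨A, h1, h2, (Nat.pow_le_pow_right (by norm_num) (by norm_num)).trans h3⟩

end Cfsg.Agent.SevenCases.SporTh
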