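import Cfsg.Agent.SigTab.RestList_m3
import Cfsg.Agent.SigZeroU5.Lin
import Cfsg.Agent.GpLn.Rank
import Cfsg.Agent.S0268
import Cfsg.Agent.S0279
import Cfsg.Agent.S1603
import Cfsg.Agent.Schreier.MEleven
import Cfsg.Agent.FastGrp
import Cfsg.Agent.Prune
set_option linter.all false
prune_inst 0x7f00000000000000000000000000000000000000000000000000000000000000000000000000000000000000000000000000000000000000000000000000000000000000000000000000000000000000003fffffffffffffffffffffffffffbeffbdffffffff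
open scoped Cfsg.Agent.FastGrp

/-!
# Known simple groups of 2-rank at most two (helper71)

`RkTwo P` : the groups of type `P` have 2-rank at most two. `rk_psl2`, `rk_psl3`, `rk_psu3` (`q` odd), `rk_alt` (`n ≤ 7`),
`rk_m11`; `RkTwo.low : RkTwo P → Low P`.
-/

set_option autoImplicit false

namespace Cfsg.Agent.SevenCases

open Cfsg Subgroup

open scoped Pointwise

universe u v

/-- the groups of type `P` have 2-rank at most two -/
def RkTwo (P : ∀ (X : Type u) [Group X], Prop) : Prop :=
  ∀ (G : Type u) [Group G] [Finite G], P G → PRankLE 2 2 G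

theorem prankLE_mono {G : Type*} [Group G] {p k l : ℕ} (hp : 0 < p) (hkl : k ≤ l) (h : PRankLE p k G) : PRankLE p l G :=
  fun A hA hAp => (h A hA hAp).trans (Nat.pow_le_pow_right hp hkl)

theorem RkTwo.low {P : ∀ (X : Type u) [Group X], Prop} (h : RkTwo P) : Low P :=
  fun G _ _ hG => prankLE_mono (by norm_num) (by norm_num) (h G hG)

/-! ### tools -/

theorem commute_of_isMulCommutative {G : Type*} [Group G] {A : Subgroup G} (hA : IsMulCommutative A) {a b : G}
    (ha : a ∈ A) (hb : b ∈ A) : a * b = b * a :=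
  congrArg Subtype.val (hA.is_comm.comm (⟨a, ha⟩ : A) ⟨b, hb⟩)

theorem prankLE_of_equiv {G : Type u} {H : Type v} [Group G] [Group H] {p k : ℕ} (e : G ≃* H) (h : PRankLE p k H) :
    PRankLE p k G := by
  intro A hA hp
  have h1 := h (A.map e.toMonoidHom) ⟨⟨by
    rintro ⟨_, x, hx, rfl⟩ ⟨_, y, hy, rfl⟩
    apply Subtype.ext
    change e x * e y = e y * e x
    rw [← map_mul, ← map_mul, commute_of_isMulCommutative hA hx hy]⟩⟩ (by
    rintro _ ⟨x, hx, rfl⟩
    change (e x) ^ p = 1
    rw [← map_pow, hp x hx, map_one])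
  rwa [Subgroup.card_map_of_injective e.injective] at h1

/-- a finite group of exponent `p` has order a power of `p` -/
theorem card_eq_pow {G : Type*} [Group G] [Finite G] {p : ℕ} [hp : Fact p.Prime] {A : Subgroup G}
    (h : ∀ a ∈ A, a ^ p = 1) : ∃ m : ℕ, Nat.card A = p ^ m := by
  have h1 : IsPGroup p A := fun a => ⟨1, by
    rw [pow_one]
    exact Subtype.ext (h a a.2)⟩
  exact IsPGroup.iff_card.1 h1

theorem prankLE_of_not_atLeast' {G : Type*} [Group G] [Finite G] {p k : ℕ} (hp : p.Prime)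
    (h : ¬ PRankAtLeast p (k + 1) G) : PRankLE p k G := by
  intro A hA hAp
  have : Fact p.Prime := ⟨hp⟩
  obtain ⟨m, hm⟩ := card_eq_pow hAp
  rw [hm]
  by_contra hc
  apply h
  refine ⟨A, hA, hAp, ?_⟩
  rw [hm]
  apply Nat.pow_le_pow_right hp.pos
  by_contra hc2
  exact hc (Nat.pow_le_pow_right hp.pos (by omega))

theorem two_ne_zero_of_odd_card {F : Type*} [Field F] [Fintype F] (h : Odd (Fintype.card F)) : (2 : F) ≠ 0 := by
  intro h2
  have h1 : ((Fintype.card F : ℕ) : F) = 0 := FiniteField.cast_card_eq_zero F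
  obtain ⟨k, hk⟩ := h
  rw [hk] at h1
  push_cast at h1
  rw [h2, zero_mul, zero_add] at h1
  exact one_ne_zero h1

/-- the natural representation of `SL_n` -/
noncomputable def slRep (n : ℕ) (F : Type*) [Field F] :
    Matrix.SpecialLinearGroup (Fin n) F →* Module.End F (Fin n → F) where
  toFun g := Matrix.toLin' (g : Matrix (Fin n) (Fin n) F)
  map_one' := by
    rw [Matrix.SpecialLinearGroup.coe_one, Matrix.toLin'_one]
    rfl
  map_mul' a b := by
    rw [Matrix.SpecialLinearGroup.coe_mul, Matrix.toLin'_mul]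
    rfl

theorem slRep_injective (n : ℕ) (F : Type*) [Field F] : Function.Injective (slRep n F) := by
  intro a b h
  apply Subtype.ext
  exact Matrix.toLin'.injective h

theorem det_slRep (n : ℕ) (F : Type*) [Field F] (g : Matrix.SpecialLinearGroup (Fin n) F) :
    LinearMap.det (slRep n F g) = 1 := by
  change LinearMap.det (Matrix.toLin' (g : Matrix (Fin n) (Fin n) F)) = 1
  rw [LinearMap.det_toLin', g.det_coe]

/-- elementary abelian 2-subgroups of `SL_{n+1}` have order at most `2 ^ n` -/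
theorem card_le_sl {n : ℕ} {F : Type u} [Field F] (h2 : (2 : F) ≠ 0) (H : Type u) [Group H]
    (f : H →* Matrix.SpecialLinearGroup (Fin (n + 1)) F) (hf : Function.Injective f) [Finite H] : PRankLE 2 n H := by
  intro A hA hA2
  let _ : CommGroup A := { (inferInstance : Group A) with mul_comm := fun a b => hA.is_comm.comm a b }
  have h := SigZeroU5.card_le_pow_det (K := F) Nat.prime_two (by exact_mod_cast h2) n (Fin (n + 1) → F)
    (by simp) A (fun a => Subtype.ext (hA2 a a.2)) ((slRep (n + 1) F).comp (f.comp A.subtype))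
    ((slRep_injective _ F).comp (hf.comp A.subtype_injective)) (fun a => det_slRep _ F _)
  exact h

/-! ### `L₃(q)`, `U₃(q)` -/

theorem rank_quot {X : Type*} [Group X] [Finite X] {k : ℕ} (hZ : ¬ 2 ∣ Nat.card (center X)) (h : PRankLE 2 k X) :
    PRankLE 2 k (X ⧸ center X) := by
  apply prankLE_of_not_atLeast' Nat.prime_two
  intro h1
  have h2 := GpLn.Rank.pRankAtLeast_of_quot (center X) le_rfl Nat.prime_two hZ h1
  obtain ⟨A, hA, hA2, hc⟩ := h2
  have h3 := h A hA hA2
  have h4 : 2 ^ k < 2 ^ (k + 1) := Nat.pow_lt_pow_right (by norm_num) (by omega)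
  omega

theorem card_center_sl_three {F : Type*} [Field F] [Fintype F] :
    ¬ 2 ∣ Nat.card (center (Matrix.SpecialLinearGroup (Fin 3) F)) := by
  intro h
  have : Fact (Nat.Prime 2) := ⟨Nat.prime_two⟩
  obtain ⟨z, hz⟩ := exists_prime_orderOf_dvd_card' 2 h
  have h1 : (z : Matrix.SpecialLinearGroup (Fin 3) F) ^ 3 = 1 := by
    obtain ⟨r, hr, hz1⟩ := Matrix.SpecialLinearGroup.mem_center_iff.1 z.2
    apply Subtype.ext
    rw [Matrix.SpecialLinearGroup.coe_pow, ← hz1, ← map_pow]
    rw [Fintype.card_fin] at hr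
    rw [hr, map_one, Matrix.SpecialLinearGroup.coe_one]
  have h2 : z ^ 3 = 1 := Subtype.ext h1
  have h3 := orderOf_dvd_of_pow_eq_one h2
  rw [hz] at h3
  omega

theorem rk_psl3 : RkTwo.{u} (fun X _ => PslOdd (fun n _ => n = 3) X) := by
  rintro G _ _ ⟨F, _, _, n, hF, rfl, ⟨e⟩⟩
  have h2 := two_ne_zero_of_odd_card hF
  have h1 : PRankLE 2 2 (Matrix.SpecialLinearGroup (Fin 3) F) :=
    card_le_sl h2 _ (MonoidHom.id _) Function.injective_id
  exact prankLE_of_equiv e (rank_quot card_center_sl_three h1)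

theorem rk_psu3 : RkTwo.{u} (fun X _ => PsuOdd (fun n _ => n = 3) X) := by
  rintro G _ _ ⟨F, _, _, n, q, hq, hF, rfl, ⟨e⟩⟩
  have hodd : Odd (Fintype.card F) := by
    rw [hF]
    exact hq.pow
  have h2 := two_ne_zero_of_odd_card hodd
  have h1 : PRankLE 2 2 (SU 3 F q) := card_le_sl h2 _ (SU 3 F q).subtype (Subgroup.subtype_injective _)
  refine prankLE_of_equiv e (rank_quot ?_ h1)
  rw [S0279.result hF 3 le_rfl]
  intro h
  have h3 := Nat.le_of_dvd (by norm_num) (Nat.gcd_dvd_left 3 (q + 1))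
  have h4 := Nat.gcd_dvd_left 3 (q + 1)
  interval_cases hg : Nat.gcd 3 (q + 1) <;> omega

/-! ### `L₂(q)` -/

theorem sq_eq_one {F : Type*} [Field F] [Fintype F] (hF : Odd (Fintype.card F))
    {w : Matrix.SpecialLinearGroup (Fin 2) F} (hw : w * w = 1) : w ∈ center (Matrix.SpecialLinearGroup (Fin 2) F) := by
  by_cases h : w = 1
  · rw [h]
    exact one_mem _
  · have h1 := S0268.result hF w h hw
    rw [mem_center_iff]
    intro g
    apply Subtype.ext
    rw [Matrix.SpecialLinearGroup.coe_mul, Matrix.SpecialLinearGroup.coe_mul, h1]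
    simp

/-- central elements of `SL₂` have square one -/
theorem center_sq {F : Type*} [Field F] {w : Matrix.SpecialLinearGroup (Fin 2) F}
    (hw : w ∈ center (Matrix.SpecialLinearGroup (Fin 2) F)) : w * w = 1 := by
  obtain ⟨r, hr, hz1⟩ := Matrix.SpecialLinearGroup.mem_center_iff.1 hw
  rw [Fintype.card_fin] at hr
  rw [← pow_two]
  apply Subtype.ext
  rw [Matrix.SpecialLinearGroup.coe_pow, ← hz1, ← map_pow, hr, map_one, Matrix.SpecialLinearGroup.coe_one]

/-- commuting lifts of involutions of `L₂(q)` differ by the centre -/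
theorem eq_of_comm {F : Type*} [Field F] [Fintype F] (hF : Odd (Fintype.card F))
    {x y : Matrix.SpecialLinearGroup (Fin 2) F} (hx : x * x ∈ center (Matrix.SpecialLinearGroup (Fin 2) F))
    (hx1 : x ∉ center (Matrix.SpecialLinearGroup (Fin 2) F))
    (hy : y * y ∈ center (Matrix.SpecialLinearGroup (Fin 2) F))
    (hy1 : y ∉ center (Matrix.SpecialLinearGroup (Fin 2) F)) (h : x * y = y * x) :
    x * y ∈ center (Matrix.SpecialLinearGroup (Fin 2) F) := by
  -- `x²` and `y²` are central involutions, hence equal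
  have hxx : x * x ≠ 1 := fun h' => hx1 (sq_eq_one hF h')
  have hyy : y * y ≠ 1 := fun h' => hy1 (sq_eq_one hF h')
  have h1 := S0268.result hF _ hxx (center_sq hx)
  have h2 := S0268.result hF _ hyy (center_sq hy)
  have h3 : x * x = y * y := Subtype.ext (h1.trans h2.symm)
  apply sq_eq_one hF
  calc x * y * (x * y) = (x * x) * (y * y) := by
        rw [mul_assoc, ← mul_assoc y x y, ← h, mul_assoc x y y, ← mul_assoc]
    _ = (x * x) * (x * x) := by rw [h3]
    _ = 1 := center_sq hx

theorem rk_psl2 : RkTwo.{u} (fun X _ => PslOdd (fun n _ => n = 2) X) := by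
  rintro G _ _ ⟨F, _, _, n, hF, rfl, ⟨e⟩⟩
  refine prankLE_of_equiv e ?_
  let Z := center (Matrix.SpecialLinearGroup (Fin 2) F)
  -- the key: commuting involutions `a ≠ b`, lifts anticommute
  have key : ∀ x y : Matrix.SpecialLinearGroup (Fin 2) F, x * x ∈ Z → x ∉ Z → y * y ∈ Z → y ∉ Z → x * y ∉ Z →
      x * y * x⁻¹ * y⁻¹ ∈ Z → x * y * x⁻¹ * y⁻¹ ≠ 1 := by
    intro x y hx hx1 hy hy1 hxy _ h
    apply hxy
    apply eq_of_comm hF hx hx1 hy hy1
    have h1 : x * y * x⁻¹ = y := by
      rw [← mul_inv_eq_one]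
      exact h
    rw [mul_inv_eq_iff_eq_mul] at h1
    exact h1
  intro A hA hA2
  by_contra hc
  push Not at hc
  -- three independent elements
  have h4 : 4 < Nat.card A := by simpa only [_root_.Nat.reducePow] using hc
  have hex : ∀ S : Finset (Matrix.ProjectiveSpecialLinearGroup (Fin 2) F), S.card ≤ 4 → ∃ a ∈ A, a ∉ S := by
    intro S hS
    by_contra hn
    push Not at hn
    have h5 : (A : Set (Matrix.ProjectiveSpecialLinearGroup (Fin 2) F)) ⊆ S := fun a ha => hn a ha
    have h6 := Set.ncard_le_ncard h5 (Finset.finite_toSet S)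
    rw [Set.ncard_coe_finset] at h6
    have h7 : (A : Set (Matrix.ProjectiveSpecialLinearGroup (Fin 2) F)).ncard = Nat.card A := rfl
    omega
  classical
  obtain ⟨a, ha, ha1⟩ := hex {1} (by simp)
  obtain ⟨b, hb, hb1⟩ := hex {1, a} ((Finset.card_insert_le _ _).trans (by simp))
  obtain ⟨c, hc', hc1⟩ := hex {1, a, b, a * b} (by
    refine (Finset.card_insert_le _ _).trans ?_
    refine Nat.succ_le_succ ((Finset.card_insert_le _ _).trans ?_)
    exact Nat.succ_le_succ ((Finset.card_insert_le _ _).trans (by simp)))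
  simp only [Finset.mem_insert, Finset.mem_singleton, not_or] at ha1 hb1 hc1
  obtain ⟨x, rfl⟩ := QuotientGroup.mk'_surjective Z a
  obtain ⟨y, rfl⟩ := QuotientGroup.mk'_surjective Z b
  obtain ⟨z, rfl⟩ := QuotientGroup.mk'_surjective Z c
  have hmem : ∀ w : Matrix.SpecialLinearGroup (Fin 2) F, QuotientGroup.mk' Z w = 1 ↔ w ∈ Z := fun w =>
    QuotientGroup.eq_one_iff w
  have hsq : ∀ w : Matrix.SpecialLinearGroup (Fin 2) F, QuotientGroup.mk' Z w ∈ A → w * w ∈ Z := by
    intro w hw
    rw [← hmem, map_mul, ← pow_two]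
    exact hA2 _ hw
  have hco : ∀ w w' : Matrix.SpecialLinearGroup (Fin 2) F, QuotientGroup.mk' Z w ∈ A → QuotientGroup.mk' Z w' ∈ A →
      w * w' * w⁻¹ * w'⁻¹ ∈ Z := by
    intro w w' hw hw'
    rw [← hmem, map_mul, map_mul, map_mul, map_inv, map_inv, commute_of_isMulCommutative hA hw hw',
      mul_inv_cancel_right, mul_inv_cancel]
  have hx := (hmem x).not.1 ha1
  have hy := (hmem y).not.1 hb1.1
  have hz := (hmem z).not.1 hc1.1
  have hinv : ∀ w : Matrix.ProjectiveSpecialLinearGroup (Fin 2) F, w ∈ A → w⁻¹ = w := by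
    intro w hw
    rw [inv_eq_iff_mul_eq_one, ← pow_two]
    exact hA2 w hw
  have hxy : x * y ∉ Z := by
    rw [← hmem, map_mul]
    intro h
    exact hb1.2 ((inv_eq_of_mul_eq_one_right h).symm.trans (hinv _ ha))
  have hxz : x * z ∉ Z := by
    rw [← hmem, map_mul]
    intro h
    exact hc1.2.1 ((inv_eq_of_mul_eq_one_right h).symm.trans (hinv _ ha))
  have hyz : y * z ∉ Z := by
    rw [← hmem, map_mul]
    intro h
    exact hc1.2.2.1 ((inv_eq_of_mul_eq_one_right h).symm.trans (hinv _ hb))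
  have hxyz : x * (y * z) ∉ Z := by
    rw [← hmem, map_mul, map_mul, ← mul_assoc]
    intro h
    have h8 := inv_eq_of_mul_eq_one_right h
    rw [hinv _ (mul_mem ha hb)] at h8
    exact hc1.2.2.2 h8.symm
  have hyzA : QuotientGroup.mk' Z (y * z) ∈ A := by
    rw [map_mul]
    exact mul_mem hb hc'
  -- the three commutators
  have k1 := key x y (hsq x ha) hx (hsq y hb) hy hxy (hco x y ha hb)
  have k2 := key x z (hsq x ha) hx (hsq z hc') hz hxz (hco x z ha hc')
  have k3 := key x (y * z) (hsq x ha) hx (hsq _ hyzA) hyz hxyz (hco x _ ha hyzA)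
  -- they are all equal to the central involution
  have e1 := S0268.result hF _ k1 (center_sq (hco x y ha hb))
  have e2 := S0268.result hF _ k2 (center_sq (hco x z ha hc'))
  have e12 : x * y * x⁻¹ * y⁻¹ = x * z * x⁻¹ * z⁻¹ := Subtype.ext (e1.trans e2.symm)
  apply k3
  have hcen := hco x z ha hc'
  have hcen' : ∀ g, g * (x * z * x⁻¹ * z⁻¹) = (x * z * x⁻¹ * z⁻¹) * g := mem_center_iff.1 hcen
  calc x * (y * z) * x⁻¹ * (y * z)⁻¹ = (x * y * x⁻¹ * y⁻¹) * (y * (x * z * x⁻¹ * z⁻¹) * y⁻¹) := by group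
    _ = (x * z * x⁻¹ * z⁻¹) * ((x * z * x⁻¹ * z⁻¹) * y * y⁻¹) := by rw [e12, hcen' y]
    _ = (x * z * x⁻¹ * z⁻¹) * (x * z * x⁻¹ * z⁻¹) := by rw [mul_inv_cancel_right]
    _ = 1 := center_sq hcen

/-! ### alternating groups -/

/-- the order is not divisible by 16 and there is an element of order 4 -/
theorem rank_le_two_of_four {G : Type*} [Group G] [Finite G] (h16 : ¬ 16 ∣ Nat.card G)
    (h4 : 8 ∣ Nat.card G → ∃ g : G, orderOf g = 4) : PRankLE 2 2 G := by
  intro A hA hA2
  have : Fact (Nat.Prime 2) := ⟨Nat.prime_two⟩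
  obtain ⟨m, hm⟩ := card_eq_pow hA2
  rw [hm]
  apply Nat.pow_le_pow_right (by norm_num)
  by_contra hc
  have hd : 2 ^ m ∣ Nat.card G := hm ▸ Subgroup.card_subgroup_dvd_card A
  have hm3 : m = 3 := by
    by_contra hne
    apply h16
    have : 2 ^ 4 ∣ 2 ^ m := Nat.pow_dvd_pow 2 (by omega)
    exact this.trans hd
  subst hm3
  obtain ⟨g, hg⟩ := h4 hd
  -- `A` is a Sylow 2-subgroup
  have hAp : IsPGroup 2 A := fun a => ⟨1, Subtype.ext (by rw [pow_one]; exact hA2 a a.2)⟩
  obtain ⟨S, hS⟩ := hAp.exists_le_sylow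
  have hSc : Nat.card S = 8 := by
    obtain ⟨k, hk⟩ := IsPGroup.iff_card.1 S.2
    have h1 : Nat.card A ∣ Nat.card S := Subgroup.card_dvd_of_le hS
    rw [hm] at h1
    have h2 : Nat.card S ∣ Nat.card G := Subgroup.card_subgroup_dvd_card _
    rw [hk] at h1 h2 ⊢
    have h3 : 3 ≤ k := (Nat.pow_dvd_pow_iff_le_right (by norm_num)).1 h1
    have h5 : k < 4 := by
      by_contra h5
      exact h16 ((Nat.pow_dvd_pow 2 (by omega : 4 ≤ k)).trans h2)
    have : k = 3 := by omega
    rw [this]
    norm_num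
  have hAS : A = S := by
    apply Subgroup.eq_of_le_of_card_ge hS
    rw [hSc, hm]
    norm_num
  have hgp : IsPGroup 2 (zpowers g) := by
    rw [IsPGroup.iff_card]
    exact ⟨2, by rw [Nat.card_zpowers, hg]; norm_num⟩
  obtain ⟨T, hT⟩ := hgp.exists_le_sylow
  obtain ⟨x, hx⟩ := MulAction.exists_smul_eq G T S
  have h6 : x * g * x⁻¹ ∈ A := by
    rw [hAS, ← hx]
    exact ⟨g, hT (mem_zpowers g), rfl⟩
  have h7 := hA2 _ h6
  rw [conj_pow] at h7
  have h8 : g ^ 2 = 1 := by
    have h9 : x * g ^ 2 = x := by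
      rw [mul_inv_eq_one] at h7
      exact h7
    exact mul_eq_left.1 h9
  have := orderOf_dvd_of_pow_eq_one h8
  rw [hg] at this
  omega

theorem card_alt (n : ℕ) (hn : 2 ≤ n) : 2 * Nat.card (alternatingGroup (Fin n)) = n.factorial := by
  have : Nontrivial (Fin n) := Fin.nontrivial_iff_two_le.2 hn
  rw [two_mul_nat_card_alternatingGroup, Nat.card_perm, Nat.card_fin]

theorem card_alt_eq (n N : ℕ) (hn : 2 ≤ n) (h : n.factorial = 2 * N) : Nat.card (alternatingGroup (Fin n)) = N := by
  have h1 := card_alt n hn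
  omega

theorem exists_four {n : ℕ} (σ : Equiv.Perm (Fin n)) (h : σ ∈ alternatingGroup (Fin n)) (h2 : σ ^ 2 ≠ 1)
    (h4 : σ ^ 4 = 1) : ∃ g : alternatingGroup (Fin n), orderOf g = 4 := by
  have : Fact (Nat.Prime 2) := ⟨Nat.prime_two⟩
  refine ⟨⟨σ, h⟩, ?_⟩
  rw [Subgroup.orderOf_mk]
  exact orderOf_eq_prime_pow (p := 2) (n := 1) (by simpa only [_root_.pow_one, _root_.ne_eq] using h2) (by simpa using h4)

theorem rk_alt : RkTwo.{u} (fun X _ => Alt (fun n => n ≤ 7) X) := by
  rintro G _ _ ⟨n, hn, ⟨e⟩⟩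
  refine prankLE_of_equiv e ?_
  have hsub : ∀ k, k ≤ 1 → PRankLE 2 2 (alternatingGroup (Fin k)) := by
    intro k hk A _ _
    have : Subsingleton (Fin k) := Fin.subsingleton_iff_le_one.2 hk
    have h1 : Nat.card (Equiv.Perm (Fin k)) = 1 := by
      rw [Nat.card_perm, Nat.card_fin]
      exact Nat.factorial_eq_one.2 hk
    have h2 : Nat.card (alternatingGroup (Fin k)) ∣ 1 := h1 ▸ Subgroup.card_subgroup_dvd_card _
    have h3 : Nat.card A ∣ 1 := (Subgroup.card_subgroup_dvd_card A).trans h2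
    rw [Nat.dvd_one.1 h3]
    norm_num
  have hn' : n = 0 ∨ n = 1 ∨ n = 2 ∨ n = 3 ∨ n = 4 ∨ n = 5 ∨ n = 6 ∨ n = 7 := by omega
  obtain rfl | rfl | rfl | rfl | rfl | rfl | rfl | rfl := hn'
  · exact hsub 0 (by norm_num)
  · exact hsub 1 (by norm_num)
  · have h := card_alt_eq 2 1 (by norm_num) (by decide)
    exact rank_le_two_of_four (by rw [h]; norm_num) (by rw [h]; norm_num only [_root_.Subtype.exists, _root_.Subgroup.orderOf_mk, _root_.Equiv.Perm.mem_alternatingGroup, _root_.exists_prop, _root_.IsEmpty.forall_iff])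
  · have h := card_alt_eq 3 3 (by norm_num) (by decide)
    exact rank_le_two_of_four (by rw [h]; norm_num) (by rw [h]; norm_num only [_root_.Subtype.exists, _root_.Subgroup.orderOf_mk, _root_.Equiv.Perm.mem_alternatingGroup, _root_.exists_prop, _root_.IsEmpty.forall_iff])
  · have h := card_alt_eq 4 12 (by norm_num) (by decide)
    exact rank_le_two_of_four (by rw [h]; norm_num) (by rw [h]; norm_num only [_root_.Subtype.exists, _root_.Subgroup.orderOf_mk, _root_.Equiv.Perm.mem_alternatingGroup, _root_.exists_prop, _root_.IsEmpty.forall_iff])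
  · have h := card_alt_eq 5 60 (by norm_num) (by decide)
    exact rank_le_two_of_four (by rw [h]; norm_num) (by rw [h]; norm_num only [_root_.Subtype.exists, _root_.Subgroup.orderOf_mk, _root_.Equiv.Perm.mem_alternatingGroup, _root_.exists_prop, _root_.IsEmpty.forall_iff])
  · have h := card_alt_eq 6 360 (by norm_num) (by decide)
    refine rank_le_two_of_four (by rw [h]; norm_num) fun _ => ?_
    exact exists_four (Equiv.swap 0 1 * Equiv.swap 1 2 * Equiv.swap 2 3 * Equiv.swap 4 5) (by
      rw [Equiv.Perm.mem_alternatingGroup]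
      decide) (by decide) (by decide)
  · have h := card_alt_eq 7 2520 (by norm_num) (by decide)
    refine rank_le_two_of_four (by rw [h]; norm_num) fun _ => ?_
    exact exists_four (Equiv.swap 0 1 * Equiv.swap 1 2 * Equiv.swap 2 3 * Equiv.swap 4 5) (by
      rw [Equiv.Perm.mem_alternatingGroup]
      decide) (by decide) (by decide)

/-! ### `M₁₁` -/

/-- the natural representation of `GL_n` -/
noncomputable def glRep (n : ℕ) (F : Type*) [Field F] : GL (Fin n) F →* Module.End F (Fin n → F) where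
  toFun g := Matrix.toLin' (g : Matrix (Fin n) (Fin n) F)
  map_one' := by
    rw [Units.val_one, Matrix.toLin'_one]
    rfl
  map_mul' a b := by
    rw [Units.val_mul, Matrix.toLin'_mul]
    rfl

theorem glRep_injective (n : ℕ) (F : Type*) [Field F] : Function.Injective (glRep n F) := by
  intro a b h
  apply Units.ext
  exact Matrix.toLin'.injective h

/-- elementary abelian 2-subgroups of `GL_n` have order at most `2 ^ n` -/
theorem card_le_gl {n : ℕ} {F : Type u} [Field F] (h2 : (2 : F) ≠ 0) (H : Type u) [Group H]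
    (f : H →* GL (Fin n) F) (hf : Function.Injective f) [Finite H] : PRankLE 2 n H := by
  intro A hA hA2
  let _ : CommGroup A := { (inferInstance : Group A) with mul_comm := fun a b => hA.is_comm.comm a b }
  exact SigZeroU5.card_le_pow (K := F) Nat.prime_two (by exact_mod_cast h2) n (Fin n → F)
    (by simp only [_root_.Module.finrank_fintype_fun_eq_card, _root_.Fintype.card_fin]) A (fun a => Subtype.ext (hA2 a a.2)) ((glRep n F).comp (f.comp A.subtype))
    ((glRep_injective _ F).comp (hf.comp A.subtype_injective))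

/-- if the centralizers of all involutions have 2-rank at most `k ≥ 0`, so has `G` -/
theorem prankLE_of_centralizer {G : Type*} [Group G] [Finite G] {k : ℕ}
    (h : ∀ x : G, orderOf x = 2 → PRankLE 2 k (centralizer ({x} : Set G))) : PRankLE 2 k G := by
  intro A hA hA2
  by_cases h1 : A = ⊥
  · rw [h1, Subgroup.card_bot]
    exact Nat.one_le_two_pow
  · obtain ⟨⟨a, ha⟩, ha1⟩ := (Subgroup.ne_bot_iff_exists_ne_one).1 h1
    have ha2 : orderOf a = 2 :=
      orderOf_eq_prime (hA2 a ha) fun h' => ha1 (Subtype.ext h')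
    have hle : A ≤ centralizer ({a} : Set G) := fun b hb => by
      rw [mem_centralizer_singleton_iff]
      exact commute_of_isMulCommutative hA hb ha
    have h3 := h a ha2 (A.subgroupOf (centralizer ({a} : Set G))) ⟨⟨by
      rintro ⟨⟨x, _⟩, hx⟩ ⟨⟨y, _⟩, hy⟩
      apply Subtype.ext
      apply Subtype.ext
      exact commute_of_isMulCommutative hA hx hy⟩⟩ (by
      rintro ⟨x, _⟩ hx
      exact Subtype.ext (hA2 x hx))
    rwa [Nat.card_congr (Subgroup.subgroupOfEquivOfLe hle).toEquiv] at h3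

theorem rk_m11 : RkTwo.{u} (fun X _ => Spor.IsoM11 X) := by
  rintro G _ _ ⟨e⟩
  refine prankLE_of_equiv (e.trans Schreier.MEleven.equiv.symm) ?_
  have hc := S0387.result _ Schreier.MEleven.squareDodecad_mem _ Schreier.MEleven.zero_mem
  have hfin : Finite ↥(MulAction.stabilizer Cfsg.M24 Spor.squareDodecad ⊓
      MulAction.stabilizer Cfsg.M24 (some 0 : GolayPt)) :=
    Nat.finite_of_card_ne_zero (by rw [hc]; norm_num)
  refine prankLE_of_centralizer fun x hx => ?_
  obtain ⟨e'⟩ := S1603.result _ Schreier.MEleven.squareDodecad_mem _ Schreier.MEleven.zero_mem x hx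
  have : Fact (Nat.Prime 3) := ⟨Nat.prime_three⟩
  exact prankLE_of_equiv e' (card_le_gl (by decide) _ (MonoidHom.id _) Function.injective_id)

end Cfsg.Agent.SevenCases
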