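import Cfsg.Agent.ResEven.Congr_m3
import Cfsg.Agent.GenType.Alt
import Cfsg.Agent.CTwoTab.Good
import Cfsg.Agent.CTwoTab.Restr
import Cfsg.Agent.S0256
import Cfsg.Agent.LThreeFour.Inv_m3
import Cfsg.Agent.SigTab.RestList_m3
import Cfsg.Agent.OddHalf.Small.G23
import Cfsg.Agent.OddHalf.Small.Transport
import Cfsg.Agent.ResEven.LFour.Core
import Cfsg.Agent.H283.NoIn
import Cfsg.Agent.EvenType.CharTwoCent
import Cfsg.Agent.EvenType.ChevTwo
import Cfsg.Agent.ResEven.LFour.Row
import Cfsg.Agent.CharThree.Res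
import Cfsg.Agent.FastGrp
import Cfsg.Agent.Prune
set_option linter.all false
prune_inst 0x7f00000000000000000000000000000000000000000000000000000000000000000000000000000000000000000000000000000000000000000000000000000000000000000000000000000000000000003fffffffffffffffffffffffffffbeffbdffffffff
open scoped Cfsg.Agent.FastGrp

-- merged: Cfsg.Agent.ResEven.AltTwelve
section

/-!
# `A₁₂` is of restricted even type (helper81)

The row `LieRes.a12` of `SevenCases/Rows.lean`.
-/

set_option autoImplicit false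

namespace Cfsg.Agent.ResEven.AltTwelve

open Subgroup Cfsg Equiv Equiv.Perm Cfsg.Agent.GenType Cfsg.Agent.CTwoTab Cfsg.Agent.SevenCases

universe u

/-! ### the group of the even products of the 2-cycles of `x` -/

section R

variable {α : Type} [Fintype α] [DecidableEq α] {x : alternatingGroup α}

theorem xx (hx : x * x = 1) (i : α) : (x : Perm α) ((x : Perm α) i) = i :=
  congrFun (congrArg (fun c : alternatingGroup α => ((c : Perm α) : α → α)) hx) i

/-- the elements of `C(x)` which map every point `i` to `i` or `x i` -/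
def R (hx : x * x = 1) : Subgroup (alternatingGroup α) where
  carrier := {c | c ∈ centralizer ({x} : Set (alternatingGroup α)) ∧
    ∀ i, (c : Perm α) i = i ∨ (c : Perm α) i = (x : Perm α) i}
  one_mem' := ⟨one_mem _, fun i => Or.inl rfl⟩
  mul_mem' := by
    rintro a b ⟨ha, ha'⟩ ⟨hb, hb'⟩
    refine ⟨mul_mem ha hb, fun i => ?_⟩
    have h1 : ((a * b : alternatingGroup α) : Perm α) i = (a : Perm α) ((b : Perm α) i) := rfl
    rw [h1]
    rcases hb' i with h | h
    · rw [h]; exact ha' i
    · rw [h, ← comm_apply x ha]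
      rcases ha' i with h2 | h2
      · right; rw [h2]
      · left; rw [h2, xx hx]
  inv_mem' := by
    rintro a ⟨ha, ha'⟩
    refine ⟨inv_mem ha, fun i => ?_⟩
    have h1 : ((a⁻¹ : alternatingGroup α) : Perm α) i = (a : Perm α)⁻¹ i := rfl
    rw [h1]
    rcases ha' i with h | h
    · left; rw [inv_eq_iff_eq, h]
    · right; rw [inv_eq_iff_eq, ← comm_apply x ha, h, xx hx]

theorem R_le (hx : x * x = 1) : R hx ≤ centralizer ({x} : Set (alternatingGroup α)) := fun _ h => h.1

theorem R_normal (hx : x * x = 1) (g : alternatingGroup α) (hg : g ∈ centralizer ({x} : Set (alternatingGroup α)))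
    (c : alternatingGroup α) (hc : c ∈ R hx) : g * c * g⁻¹ ∈ R hx := by
  refine ⟨mul_mem (mul_mem hg hc.1) (inv_mem hg), fun i => ?_⟩
  have h1 : ((g * c * g⁻¹ : alternatingGroup α) : Perm α) i = (g : Perm α) ((c : Perm α) ((g : Perm α)⁻¹ i)) := rfl
  rw [h1]
  rcases hc.2 ((g : Perm α)⁻¹ i) with h | h
  · left; rw [h]; exact (g : Perm α).apply_symm_apply i
  · right; rw [h, ← comm_apply x hg]; exact congrArg _ ((g : Perm α).apply_symm_apply i)

theorem R_sq (hx : x * x = 1) (c : alternatingGroup α) (hc : c ∈ R hx) : c * c = 1 := by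
  apply Subtype.ext
  ext i
  show (c : Perm α) ((c : Perm α) i) = i
  rcases hc.2 i with h | h
  · rw [h, h]
  · rw [h, ← comm_apply x hc.1, h, xx hx]

theorem R_pGroup (hx : x * x = 1) : IsPGroup 2 ↥(R hx) := by
  intro c
  refine ⟨1, ?_⟩
  apply Subtype.ext
  show (c : alternatingGroup α) ^ 2 ^ 1 = 1
  rw [pow_one, pow_two, R_sq hx c c.2]

/-- `(i, x i)(j, x j)` -/
def tau (x : alternatingGroup α) (i j : α) : Perm α := swap i ((x : Perm α) i) * swap j ((x : Perm α) j)

/-- in `R` -/
theorem exists_tau (hx : x * x = 1) {i j : α} (hi : (x : Perm α) i ≠ i) (hj : (x : Perm α) j ≠ j)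
    (h1 : j ≠ i) (h2 : j ≠ (x : Perm α) i) : ∃ c ∈ R hx, (c : Perm α) i = (x : Perm α) i ∧
      ∀ k, (c : Perm α) k ≠ k → k = i ∨ k = (x : Perm α) i ∨ k = j ∨ k = (x : Perm α) j := by
  have h3 : i ≠ (x : Perm α) j := by
    intro h
    apply h2
    rw [h, xx hx]
  have hs : sign (tau x i j) = 1 := by
    rw [tau, map_mul, sign_swap (Ne.symm hi), sign_swap (Ne.symm hj)]
    rfl
  have hj' : swap j ((x : Perm α) j) i = i := swap_apply_of_ne_of_ne h1.symm h3
  have hval : ∀ k, tau x i j k = k ∨ tau x i j k = (x : Perm α) k := by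
    intro k
    show swap i ((x : Perm α) i) (swap j ((x : Perm α) j) k) = k ∨
      swap i ((x : Perm α) i) (swap j ((x : Perm α) j) k) = (x : Perm α) k
    have h4 : (x : Perm α) j ≠ (x : Perm α) i := fun h => h1 ((x : Perm α).injective h)
    by_cases hk : k = j
    · right
      rw [hk, swap_apply_left, swap_apply_of_ne_of_ne (Ne.symm h3) h4]
    · by_cases hk' : k = (x : Perm α) j
      · right
        rw [hk', swap_apply_right, swap_apply_of_ne_of_ne h1 h2, xx hx]
      · rw [swap_apply_of_ne_of_ne hk hk']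
        by_cases hk2 : k = i
        · right; rw [hk2, swap_apply_left]
        · by_cases hk3 : k = (x : Perm α) i
          · right; rw [hk3, swap_apply_right, xx hx]
          · left; rw [swap_apply_of_ne_of_ne hk2 hk3]
  have hsupp : ∀ k, tau x i j k ≠ k → k = i ∨ k = (x : Perm α) i ∨ k = j ∨ k = (x : Perm α) j := by
    intro k hk
    by_contra hne
    push Not at hne
    obtain ⟨a1, a2, a3, a4⟩ := hne
    apply hk
    show swap i ((x : Perm α) i) (swap j ((x : Perm α) j) k) = k
    rw [swap_apply_of_ne_of_ne a3 a4, swap_apply_of_ne_of_ne a1 a2]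
  have hconj : ∀ a : α, (x : Perm α) * swap a ((x : Perm α) a) * (x : Perm α)⁻¹ = swap a ((x : Perm α) a) := by
    intro a
    rw [mul_swap_eq_swap_mul, mul_inv_cancel_right, xx hx, swap_comm]
  refine ⟨⟨tau x i j, mem_alternatingGroup.2 hs⟩, ⟨?_, hval⟩, ?_, hsupp⟩
  · rw [mem_centralizer_singleton_iff]
    apply Subtype.ext
    show tau x i j * (x : Perm α) = (x : Perm α) * tau x i j
    rw [eq_comm, ← mul_inv_eq_iff_eq_mul]
    calc (x : Perm α) * tau x i j * (x : Perm α)⁻¹
        = ((x : Perm α) * swap i ((x : Perm α) i) * (x : Perm α)⁻¹) *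
          ((x : Perm α) * swap j ((x : Perm α) j) * (x : Perm α)⁻¹) := by rw [tau]; group
      _ = tau x i j := by rw [hconj, hconj]; rfl
  · show swap i ((x : Perm α) i) (swap j ((x : Perm α) j) i) = (x : Perm α) i
    rw [hj', swap_apply_left]

/-- the centralizer of `R`, if more than four points are moved -/
theorem cent_R (hx : x * x = 1) (h4 : 4 < Fintype.card (Mv x)) {c : alternatingGroup α}
    (hc : c ∈ centralizer ({x} : Set (alternatingGroup α))) (hcR : ∀ r ∈ R hx, c * r = r * c) {i : α}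
    (hi : (x : Perm α) i ≠ i) : (c : Perm α) i = i ∨ (c : Perm α) i = (x : Perm α) i := by
  by_contra hne
  push Not at hne
  obtain ⟨n1, n2⟩ := hne
  -- a moved point outside `{i, x i, c i, x c i}`
  obtain ⟨j, hj, j1, j2, j3, j4⟩ : ∃ j, (x : Perm α) j ≠ j ∧ j ≠ i ∧ j ≠ (x : Perm α) i ∧ j ≠ (c : Perm α) i ∧
      j ≠ (x : Perm α) ((c : Perm α) i) := by
    by_contra hall
    push Not at hall
    have hsub : Finset.univ.filter (fun j => (x : Perm α) j ≠ j) ⊆
        {i, (x : Perm α) i, (c : Perm α) i, (x : Perm α) ((c : Perm α) i)} := by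
      intro j hj
      rw [Finset.mem_filter] at hj
      have := hall j hj.2
      simp only [Finset.mem_insert, Finset.mem_singleton]
      (clear * - this; tauto)
    have h5 := Finset.card_le_card hsub
    have h6 : (Finset.univ.filter (fun j => (x : Perm α) j ≠ j)).card = Fintype.card (Mv x) := by
      rw [Fintype.card_subtype]
    have h7 := Finset.card_le_four (a := i) (b := (x : Perm α) i) (c := (c : Perm α) i)
      (d := (x : Perm α) ((c : Perm α) i))
    omega
  obtain ⟨r, hr, hr1, hr2⟩ := exists_tau hx hi hj j1 j2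
  have h5 : (c : Perm α) ((r : Perm α) i) = (r : Perm α) ((c : Perm α) i) :=
    congrFun (congrArg (fun c : alternatingGroup α => ((c : Perm α) : α → α)) (hcR r hr)) i
  have h6 : (r : Perm α) ((c : Perm α) i) ≠ (c : Perm α) i := by
    rw [← h5, hr1]
    intro h
    exact hi ((c : Perm α).injective h)
  rcases hr2 _ h6 with h | h | h | h
  · exact n1 h
  · exact n2 h
  · exact j3 h.symm
  · apply j4
    rw [h, xx hx]

end R

/-! ### normal subgroups of odd order -/

/-- no nontrivial normal subgroup of odd order -/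
def OddBot (G : Type*) [Group G] : Prop := ∀ M : Subgroup G, M.Normal → Odd (Nat.card ↥M) → M = ⊥

theorem OddBot.congr {G H : Type*} [Group G] [Group H] (e : G ≃* H) (h : OddBot G) : OddBot H := by
  intro M hM ho
  have h1 : (M.map e.symm.toMonoidHom).Normal := hM.map _ e.symm.surjective
  have h2 := h _ h1 (by rwa [← Nat.card_congr (subMap e.symm M).toEquiv])
  exact (map_eq_bot_iff_of_injective _ e.symm.injective).1 h2

theorem OddBot.of_simple {G : Type*} [Group G] [IsSimpleGroup G] (he : Even (Nat.card G)) : OddBot G := by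
  intro M hM ho
  rcases hM.eq_bot_or_eq_top with h | h
  · exact h
  · exfalso
    rw [h, Nat.card_congr Subgroup.topEquiv.toEquiv] at ho
    exact (Nat.not_even_iff_odd.2 ho) he

theorem key_four : ∀ g : alternatingGroup (Fin 4), g = 1 ∨ g * g = 1 ∨ ∃ h : alternatingGroup (Fin 4),
    g⁻¹ * (h * g * h⁻¹) ≠ 1 ∧ g⁻¹ * (h * g * h⁻¹) * (g⁻¹ * (h * g * h⁻¹)) = 1 := by
  decide +kernel

theorem oddBot_four : OddBot (alternatingGroup (Fin 4)) := by
  intro M hM ho
  have hinv : ∀ g ∈ M, g * g = 1 → g = 1 := by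
    intro g hg hgg
    have h1 : orderOf (⟨g, hg⟩ : M) ∣ Nat.card M := _root_.orderOf_dvd_natCard _
    rw [Subgroup.orderOf_mk] at h1
    have h2 : orderOf g ∣ 2 := orderOf_dvd_of_pow_eq_one (by rw [pow_two, hgg])
    have h3 : Nat.Coprime (Nat.card M) 2 := Nat.coprime_two_right.2 ho
    exact orderOf_eq_one_iff.1 (Nat.eq_one_of_dvd_coprimes h3 h1 h2)
  rw [eq_bot_iff]
  intro g hg
  rw [mem_bot]
  rcases key_four g with h | h | ⟨k, h1, h2⟩
  · exact h
  · exact hinv g hg h
  · exact absurd (hinv _ (mul_mem (inv_mem hg) (hM.conj_mem g hg k)) h2) h1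

theorem card_alt_eight : Nat.card (alternatingGroup (Fin 8)) = 20160 := card_A8

theorem simple_eight : IsSimpleGroup (alternatingGroup (Fin 8)) :=
  alternatingGroup.isSimpleGroup (by rw [Nat.card_eq_fintype_card, Fintype.card_fin]; norm_num)

theorem oddBot_alt {β : Type} [Fintype β] [DecidableEq β]
    (h : Fintype.card β = 0 ∨ Fintype.card β = 4 ∨ Fintype.card β = 8) : OddBot (alternatingGroup β) := by
  have key : ∀ n, Fintype.card β = n → OddBot (alternatingGroup (Fin n)) → OddBot (alternatingGroup β) := by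
    intro n hn ho
    subst hn
    exact ho.congr (Fintype.equivFin β).altCongrHom.symm
  rcases h with h | h | h
  · refine key _ h ?_
    intro M _ _
    rw [eq_bot_iff]
    intro g _
    rw [mem_bot]
    apply Subtype.ext
    ext i
    exact i.elim0
  · exact key _ h oddBot_four
  · have := simple_eight
    exact key _ h (OddBot.of_simple (by rw [card_alt_eight]; decide))

/-! ### the core -/

section core

variable {α : Type} [Fintype α] [DecidableEq α] {x : alternatingGroup α}

theorem cases_card (hα : Fintype.card α = 12) (hx : orderOf x = 2) :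
    (Fintype.card (Mv x) = 4 ∧ Fintype.card (Fx x) = 8) ∨ (Fintype.card (Mv x) = 8 ∧ Fintype.card (Fx x) = 4) ∨
      (Fintype.card (Mv x) = 12 ∧ Fintype.card (Fx x) = 0) := by
  have h1 := card_split x
  obtain ⟨⟨k, hk⟩, h3⟩ := card_moved x hx
  rw [hα, hk] at h1
  omega

theorem core_le (hα : Fintype.card α = 12) (hx : orderOf x = 2) :
    pPrimeCore 2 ↥(centralizer ({x} : Set (alternatingGroup α))) ≤ (rho x).ker := by
  set C := centralizer ({x} : Set (alternatingGroup α)) with hC
  have hQn : (pPrimeCore 2 ↥C).Normal := Lib.Cores.pPrimeCore_normal 2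
  have hodd : (Nat.card ↥(pPrimeCore 2 ↥C)).Coprime 2 := Lib.Cores.pPrimeCore_coprime 2
  have hxx : x * x = 1 := by
    have h := pow_orderOf_eq_one x
    rw [hx, pow_two] at h
    exact h
  -- it is enough that the order of `rho x q` divides a power of 2
  have fin : ∀ q ∈ pPrimeCore 2 ↥C, (∃ k, orderOf (rho x q) ∣ 2 ^ k) → q ∈ (rho x).ker := by
    rintro q hq ⟨k, hk⟩
    rw [MonoidHom.mem_ker, ← orderOf_eq_one_iff]
    have h1 : orderOf (rho x q) ∣ orderOf q := orderOf_map_dvd _ _
    have h2 : orderOf (⟨q, hq⟩ : ↥(pPrimeCore 2 ↥C)) ∣ Nat.card ↥(pPrimeCore 2 ↥C) := _root_.orderOf_dvd_natCard _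
    rw [Subgroup.orderOf_mk] at h2
    exact Nat.eq_one_of_dvd_coprimes (Nat.Coprime.pow_right k hodd) (h1.trans h2) hk
  intro q hq
  apply fin q hq
  rcases cases_card hα hx with ⟨h4, -⟩ | hbig
  · refine ⟨3, ?_⟩
    have h1 := card_centralizer_xm x hx (k := 2) (by rw [h4]) (by norm_num)
    have h2 : orderOf (⟨rho x q, rho_comm x q⟩ : ↥(centralizer ({xm x} : Set (Perm (Mv x))))) ∣ _ :=
      _root_.orderOf_dvd_natCard _
    rw [Subgroup.orderOf_mk, h1] at h2
    exact h2
  · refine ⟨1, ?_⟩
    have h4 : 4 < Fintype.card (Mv x) := by omega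
    have hRn : ((R hxx).subgroupOf C).Normal := ⟨fun r hr g => R_normal hxx g g.2 r hr⟩
    have hdis : _root_.Disjoint ((R hxx).subgroupOf C) (pPrimeCore 2 ↥C) := by
      apply Subgroup.disjoint_of_coprime_natCard
      have : Fact (Nat.Prime 2) := ⟨Nat.prime_two⟩
      obtain ⟨n, hn2⟩ := IsPGroup.iff_card.1 (R_pGroup hxx)
      rw [Nat.card_congr (subgroupOfEquivOfLe (R_le hxx)).toEquiv, hn2]
      exact (Nat.Coprime.pow_right n hodd).symm
    have hcomm := Subgroup.commute_of_normal_of_disjoint _ _ hRn hQn hdis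
    have hcR : ∀ r ∈ R hxx, (q : alternatingGroup α) * r = r * q := fun r hr =>
      congrArg Subtype.val (hcomm ⟨r, R_le hxx hr⟩ q (mem_subgroupOf.2 hr) hq).eq.symm
    apply orderOf_dvd_of_pow_eq_one
    rw [pow_one]
    ext ⟨i, hi⟩
    show ((q : alternatingGroup α) : Perm α) (((q : alternatingGroup α) : Perm α) i) = i
    rcases cent_R hxx h4 q.2 hcR hi with h | h
    · rw [h, h]
    · rw [h, ← comm_apply x q.2, h, xx hxx]

/-- **`O(C(x)) = 1`** -/
theorem bal (hα : Fintype.card α = 12) (hx : orderOf x = 2) : centralizerPPrimeCore 2 x = ⊥ := by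
  rw [centralizerPPrimeCore_eq_bot_iff]
  have h1 := core_le hα hx
  have hQn : (pPrimeCore 2 ↥(centralizer ({x} : Set (alternatingGroup α)))).Normal := Lib.Cores.pPrimeCore_normal 2
  have hodd : (Nat.card ↥(pPrimeCore 2 ↥(centralizer ({x} : Set (alternatingGroup α))))).Coprime 2 :=
    Lib.Cores.pPrimeCore_coprime 2
  have hF : Fintype.card (Fx x) = 0 ∨ Fintype.card (Fx x) = 4 ∨ Fintype.card (Fx x) = 8 := by
    have := cases_card hα hx
    omega
  have hO := (oddBot_alt hF).congr (kerEquiv x)
  have h2 := hO ((pPrimeCore 2 ↥(centralizer ({x} : Set (alternatingGroup α)))).subgroupOf (rho x).ker)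
    (hQn.subgroupOf _) (by
      rw [Nat.card_congr (subgroupOfEquivOfLe h1).toEquiv]
      exact Nat.coprime_two_right.1 hodd)
  rw [subgroupOf_eq_bot] at h2
  rw [disjoint_iff, inf_eq_left.2 h1] at h2
  exact h2

/-- **the components** of `C(x)` -/
theorem comp (hα : Fintype.card α = 12) (hx : orderOf x = 2) (K : Subgroup (alternatingGroup α))
    (hK : IsComponentOf K (centralizer ({x} : Set (alternatingGroup α)))) :
    Nonempty (↥K ≃* alternatingGroup (Fin 8)) := by
  have hxx : x * x = 1 := by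
    have h := pow_orderOf_eq_one x
    rw [hx, pow_two] at h
    exact h
  rcases cases_card hα hx with ⟨h4, h8⟩ | ⟨h4, h8⟩ | ⟨h4, h8⟩
  · -- one component
    have hq := solvable_quot x hx (by omega)
    have hs2 : IsSimpleGroup ↥(rho x).ker := by
      have h1 : IsSimpleGroup (alternatingGroup (Fx x)) := alternatingGroup.isSimpleGroup (by
        rw [Nat.card_eq_fintype_card]; omega)
      exact (MulEquiv.isSimpleGroup_congr (kerEquiv x)).1 h1
    have h1 : K.subgroupOf (centralizer ({x} : Set (alternatingGroup α))) ≤ (rho x).ker :=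
      le_of_perfect hq hK.2.2.1
    have h2 := eq_of_le_simple hK.2 h1
    have e1 : ↥K ≃* ↥(rho x).ker := (subgroupOfEquivOfLe hK.1).symm.trans (MulEquiv.subgroupCongr h2)
    have e2 : alternatingGroup (Fx x) ≃* alternatingGroup (Fin 8) := (Fintype.equivFinOfCardEq h8).altCongrHom
    exact ⟨(e1.trans (kerEquiv x).symm).trans e2⟩
  · -- solvable
    exfalso
    have hq := solvable_quot x hx (by omega)
    have hA := solvable_alt_four (β := Fx x) (by omega)
    have hN : Group.IsSolvable ↥(rho x).ker :=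
      Group.isSolvable_of_surjective (f := (kerEquiv x).toMonoidHom) (kerEquiv x).surjective
    have hC : Group.IsSolvable ↥(centralizer ({x} : Set (alternatingGroup α))) :=
      Group.isSolvable_of_ker_le_range (rho x).ker.subtype (QuotientGroup.mk' (rho x).ker)
        (by rw [QuotientGroup.ker_mk', Subgroup.range_subtype])
    exact no_comp_of_solvable hC _ hK.2
  · exfalso
    have : Fact (Nat.Prime 2) := ⟨Nat.prime_two⟩
    refine no_comp_of_pGroup (p := 2) (R := R hxx) (R_le hxx) (R_normal hxx) (R_pGroup hxx) ?_ K hK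
    intro c hc hcR
    refine ⟨hc, fun i => ?_⟩
    have hi : (x : Perm α) i ≠ i := by
      intro hi
      have := Fintype.card_eq_zero_iff.1 h8
      exact this.elim ⟨i, hi⟩
    exact cent_R hxx (by omega) hc hcR hi

end core

/-! ### `A₈` -/

theorem not_comm_eight : ¬ IsMulCommutative (alternatingGroup (Fin 8)) := by
  intro h
  have h1 := alternatingGroup.center_eq_bot (α := Fin 8) (by rw [Nat.card_eq_fintype_card, Fintype.card_fin]; norm_num)
  have h2 : center (alternatingGroup (Fin 8)) = ⊤ := by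
    rw [eq_top_iff]
    intro a _
    rw [mem_center_iff]
    intro b
    exact h.is_comm.comm b a
  have := simple_eight
  rw [h1] at h2
  exact bot_ne_top h2

theorem good_eight : Good (alternatingGroup (Fin 8)) := by
  have := simple_eight
  refine good_of_simple not_comm_eight (Or.inl (Or.inl (Or.inl ⟨ZMod 2, inferInstance, inferInstance,
    inferInstance, 4, by norm_num, by norm_num, ?_⟩)))
  obtain ⟨e⟩ := Cfsg.Agent.S0256.result (F := ZMod 2) (ZMod.card 2)
  exact ⟨e.symm⟩

def ia : alternatingGroup (Fin 8) := ⟨swap (0 : Fin 8) 1 * swap (2 : Fin 8) 3, by rw [mem_alternatingGroup]; decide +kernel⟩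

def ib : alternatingGroup (Fin 8) := ⟨swap (0 : Fin 8) 1 * swap (2 : Fin 8) 3 * (swap (4 : Fin 8) 5 * swap (6 : Fin 8) 7), by
  rw [mem_alternatingGroup]; decide +kernel⟩

/-- `A₈` is not `L₃(4)` -/
theorem not_l34 {F : Type*} [Field F] [Fintype F] (hF : Fintype.card F = 4)
    (e : alternatingGroup (Fin 8) ≃* Matrix.ProjectiveSpecialLinearGroup (Fin 3) F) : False := by
  obtain ⟨A⟩ := LThreeFour.exists_dat hF e
  obtain ⟨g, hg⟩ := A.invol_conj ia (by decide +kernel) (by decide +kernel)
  obtain ⟨h, hh⟩ := A.invol_conj ib (by decide +kernel) (by decide +kernel)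
  have h1 : (g : Perm (Fin 8)) * (ia : Perm (Fin 8)) * (g : Perm (Fin 8))⁻¹ =
      (h : Perm (Fin 8)) * (ib : Perm (Fin 8)) * (h : Perm (Fin 8))⁻¹ := congrArg Subtype.val (hg.trans hh.symm)
  have h2 := congrArg (fun p : Perm (Fin 8) => p.support.card) h1
  simp only [card_support_conj] at h2
  exact absurd h2 (by decide +kernel)

/-! ### `A₁₂` -/

theorem at_alt {α : Type} [Fintype α] [DecidableEq α] {x : alternatingGroup α} (hα : Fintype.card α = 12)
    (hx : orderOf x = 2) : At (alternatingGroup α) x where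
  bal := bal hα hx
  comp := fun K hK => by
    obtain ⟨e⟩ := comp hα hx K hK
    exact good_eight.congr e.symm

theorem compC2 : CompC2 (alternatingGroup (Fin 12)) :=
  ⟨fun _ ht => (at_alt (Fintype.card_fin 12) ht).bal, fun _ ht => (at_alt (Fintype.card_fin 12) ht).comp⟩

def ra : alternatingGroup (Fin 12) := ⟨swap (0 : Fin 12) 1 * swap (2 : Fin 12) 3, by rw [mem_alternatingGroup]; decide +kernel⟩

def rb : alternatingGroup (Fin 12) := ⟨swap (0 : Fin 12) 2 * swap (1 : Fin 12) 3, by rw [mem_alternatingGroup]; decide +kernel⟩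

def rc : alternatingGroup (Fin 12) := ⟨swap (4 : Fin 12) 5 * swap (6 : Fin 12) 7, by rw [mem_alternatingGroup]; decide +kernel⟩

theorem rank : PRankAtLeast 2 3 (alternatingGroup (Fin 12)) := by
  refine rank_of_three (x := ra) (y := rb) (z := rc) ?_ ?_ ?_ ?_ ?_ ?_ ?_ ?_ ?_ ?_ ?_ ?_ ?_ <;> decide +kernel

theorem restricted_alt : IsOfRestrictedEvenType (alternatingGroup (Fin 12)) := by
  have h := compC2
  have key : ∀ (x : alternatingGroup (Fin 12)) (K : Subgroup (alternatingGroup (Fin 12))), orderOf x = 2 →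
      IsComponentOf K (centralizer ({x} : Set (alternatingGroup (Fin 12)))) →
      ∀ (F : Type) [Field F] [Fintype F], IsFM9 (Fintype.card F) →
        ¬ Nonempty (↥K ≃* Matrix.ProjectiveSpecialLinearGroup (Fin 2) F) := by
    rintro x K hx hK F _ _ hF ⟨e⟩
    obtain ⟨f⟩ := comp (Fintype.card_fin 12) hx K hK
    have h1 := card_PSL_two F (odd_of_isFM9 hF)
    rw [← Nat.card_congr e.toEquiv, Nat.card_congr f.toEquiv, card_alt_eight] at h1
    exact ne_of_between 34 (by norm_num) (by norm_num) (by norm_num) _ h1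
  refine ⟨⟨h.lpAll, h.bal, rank⟩, ?_, ?_, ?_⟩
  · intro x K hx hK F _ _ hF e
    exact absurd e (key x K hx hK F hF)
  · intro x K hx F _ _ hF e
    exact absurd e (key x K hx.1 hx.2.1 F hF)
  · rintro x y K - - hx ⟨F, _, _, hF, ⟨e⟩⟩ - - -
    exfalso
    obtain ⟨f⟩ := comp (Fintype.card_fin 12) hx.1 K hx.2.1
    have hz : center ↥K = ⊥ := by
      have := simple_eight
      exact center_eq_bot_congr f.symm (center_eq_bot_of_simple not_comm_eight)
    exact not_l34 hF (f.symm.trans
      (((QuotientGroup.quotientMulEquivOfEq hz).trans QuotientGroup.quotientBot).symm.trans e))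

/-- **The row `LieRes.a12`.** -/
theorem a12 : Res.{u} (fun X _ => Alt (fun n => n = 12) X) := by
  rintro G _ _ ⟨n, rfl, ⟨e⟩⟩
  exact Congr.restricted_of e.symm restricted_alt

end Cfsg.Agent.ResEven.AltTwelve

end

-- merged: Cfsg.Agent.ResEven.GTwo
section

/-!
# `G₂(3)` is of restricted even type (helper81)

The row `LieRes.g23` of `SevenCases/Rows.lean`: characteristic 2 type, and three commuting involutions.
-/

set_option autoImplicit false
set_option maxRecDepth 10000

namespace Cfsg.Agent.ResEven.GTwo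

open Subgroup Cfsg Cfsg.Agent.ResEven.Base Cfsg.Agent.SevenCases
open Cfsg.Lie
open Cfsg.Agent.GTwoThree.Model
open Cfsg.Agent.OddHalf.Small.G23Data Cfsg.Agent.OddHalf.Small.G23Check Cfsg.Agent.OddHalf.Small.G23
open Cfsg.Agent.ChevalleyStructure

universe u

def wa : List ℕ := [12, 11, 12, 18, 5, 18]

def wb : List ℕ := [12, 12, 11, 12, 13, 18, 18, 5, 18, 19]

theorem check : (eqc (wa ++ wa) [] && eqc (wb ++ wb) [] && eqc (wz ++ wz) [] && eqc (wa ++ wb) (wb ++ wa) &&
    eqc (wa ++ wz) (wz ++ wa) && eqc (wb ++ wz) (wz ++ wb)) = true := by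
  decide +kernel

theorem check' : (nec wa [] && nec wb [] && nec wz [] && nec (wa ++ wb) [] && nec (wa ++ wz) [] &&
    nec (wb ++ wz) [] && nec (wa ++ wb ++ wz) []) = true := by
  decide +kernel

theorem rank : PRankAtLeast 2 3 ↥Gp := by
  have h := check
  have h' := check'
  simp only [Bool.and_eq_true] at h h'
  obtain ⟨⟨⟨⟨⟨h1, h2⟩, h3⟩, h4⟩, h5⟩, h6⟩ := h
  obtain ⟨⟨⟨⟨⟨⟨n1, n2⟩, n3⟩, n4⟩, n5⟩, n6⟩, n7⟩ := h'
  have e : ∀ {w w' : List ℕ}, eqc w w' = true → ev y w = ev y w' := fun h => eq_of_eqc h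
  have n : ∀ {w w' : List ℕ}, nec w w' = true → ev y w ≠ ev y w' := fun h => ne_of_nec h
  refine CTwoTab.rank_of_three (x := ev y wa) (y := ev y wb) (z := ev y wz) ?_ ?_ ?_ ?_ ?_ ?_ ?_ ?_ ?_ ?_ ?_ ?_ ?_
  · rw [← ev_append, e h1, ev_nil]
  · rw [← ev_append, e h2, ev_nil]
  · rw [← ev_append, e h3, ev_nil]
  · rw [← ev_append, ← ev_append, e h4]
  · rw [← ev_append, ← ev_append, e h5]
  · rw [← ev_append, ← ev_append, e h6]
  · have := n n1; rwa [ev_nil] at this
  · have := n n2; rwa [ev_nil] at this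
  · have := n n3; rwa [ev_nil] at this
  · have := n n4; rwa [ev_nil, ev_append] at this
  · have := n n5; rwa [ev_nil, ev_append] at this
  · have := n n6; rwa [ev_nil, ev_append] at this
  · have := n n7; rwa [ev_nil, ev_append, ev_append] at this

theorem restricted {G : Type u} [Group G] [Finite G] (F : Type) [Field F] [Fintype F] (hF : Fintype.card F = 3)
    (e : G ≃* ↥(chevG2.group F)) : IsOfRestrictedEvenType G := by
  refine restricted_of_charTwo
    (OddHalf.Small.Transport.isCharacteristicTwoType e.symm (OddHalf.Small.G23.g23 F hF)) (_root_.Cfsg.Agent.ResEven.Base.rank_congr e.symm ?_)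
  let φ : ZMod 3 ≃+* F := FiniteField.ringEquivOfCardEq (by rw [hF, ZMod.card])
  exact _root_.Cfsg.Agent.ResEven.Base.rank_congr (FieldIso.groupEquiv chevG2 φ) rank

/-- **The row `LieRes.g23`.** -/
theorem g23 : Res.{u} (fun X _ => GTwoOdd (fun q => q = 3) X) := by
  rintro G _ _ ⟨F, i1, i2, -, hF, ⟨e⟩⟩
  exact restricted F hF e

end Cfsg.Agent.ResEven.GTwo

end

-- merged: Cfsg.Agent.ResEven.UFourThree
section

/-!
# `U₄(3)` is of restricted even type (helper81)

The row `LieRes.u43` of `SevenCases/Rows.lean`.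
-/

set_option autoImplicit false

namespace Cfsg.Agent.ResEven.UFourThree

open Subgroup Cfsg Cfsg.Agent.ResEven.Base Cfsg.Agent.SevenCases

universe u

theorem charTwo {G : Type u} [Group G] [Finite G] (F : Type) [Field F] [Fintype F] (hF : Fintype.card F = 9)
    (e : G ≃* PSU 4 F 3) : IsCharacteristicTwoType G :=
  OddHalf.Small.Transport.isCharacteristicTwoType e.symm (OddHalf.Small.U43.charTwo_U43 F hF)

theorem restricted {G : Type u} [Group G] [Finite G] (F : Type) [Field F] [Fintype F] (hF : Fintype.card F = 9)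
    (e : G ≃* PSU 4 F 3) : IsOfRestrictedEvenType G := by
  refine restricted_of_charTwo (charTwo F hF e) (_root_.Cfsg.Agent.ResEven.Base.rank_congr e.symm ?_)
  obtain ⟨A, h1, h2, h3⟩ := FourRank.rank_psu (F := F) hF
  exact ⟨A, h1, h2, le_trans (by norm_num) h3⟩

/-- **The row `LieRes.u43`.** -/
theorem u43 : Res.{u} (fun X _ => PsuOdd (fun n q => n = 4 ∧ q = 3) X) := by
  rintro G _ _ ⟨F, i1, i2, n, q, -, hF, ⟨rfl, rfl⟩, ⟨e⟩⟩
  exact restricted F (by rw [hF]; norm_num) e

end Cfsg.Agent.ResEven.UFourThree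

end

-- merged: Cfsg.Agent.SevenCases.TabLie
section

/-!
# The part `LieRes` of the table for S1802, S1803 (helper71)
-/

set_option autoImplicit false

namespace Cfsg.Agent.SevenCases.Tab

open Subgroup Cfsg

universe u

/-- `S1787` -/
theorem charTwoComp : CharTwoComp.{u} := by
  intro G _ _ _ hG h
  have h2 := Cfsg.Agent.EvenType.ChevTwo.charTwo hG h
  exact ⟨fun x hx K hK => Cfsg.Agent.EvenType.CharTwoCent.no_component h2 hx K hK,
    fun x hx => Cfsg.Agent.EvenType.CharTwoCent.core_eq_bot h2 hx⟩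

/-- **the table `LieRes`** -/
theorem lie : LieRes.{u} where
  charTwo := charTwo charTwoComp
  l43 := ResEven.LFour.l43
  u43 := ResEven.UFourThree.u43
  g23 := ResEven.GTwo.g23
  o73 := CharThree.o73
  o8p3 := CharThree.o8p3
  o8m3 := CharThree.o8m3
  a12 := ResEven.AltTwelve.a12

end Cfsg.Agent.SevenCases.Tab

end

private theorem dce_67e4c0194ac0 : _root_.True := by
  try have : _root_.True := by simp only [_root_.Cfsg.Agent.ResEven.AltTwelve.tau.eq_1]
  exact _root_.True.intro
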